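import Groth.Agent.L28.ProEt.Cech.Vanish
import Mathlib.CategoryTheory.Category.ULift
import Mathlib.CategoryTheory.Sites.Equivalence
import Mathlib.CategoryTheory.Sites.SheafCohomology.Basic
import Mathlib.CategoryTheory.Sites.ConstantSheaf
import Mathlib.CategoryTheory.Abelian.GrothendieckAxioms.Sheaf
import Mathlib.CategoryTheory.Abelian.GrothendieckCategory.EnoughInjectives
import Mathlib.CategoryTheory.Abelian.GrothendieckCategory.HasExt

/-!
# Cohomology on a site with small morphisms computed on an equivalent small site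
-/

universe u

open CategoryTheory CategoryTheory.Limits Opposite CategoryTheory.Abelian

set_option autoImplicit false
set_option linter.style.haveILetI false
set_option backward.isDefEq.respectTransparency false
set_option backward.isDefEq.respectTransparency.types false

noncomputable section

namespace Groth.L09.EtColim

variable {C : Type (u + 1)} [Category.{u} C] (J : GrothendieckTopology C)

/-- The site with enlarged morphism sets. -/
abbrev CB (C : Type (u + 1)) [Category.{u} C] : Type (u + 1) := ULiftHom.{u + 1} C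

/-- The equivalence with the enlarged category. -/
abbrev eB (C : Type (u + 1)) [Category.{u} C] : C ≌ CB C := ULiftHom.equiv

/-- The transported topology. -/
abbrev JB : GrothendieckTopology (CB C) := (eB C).inverse.inducedTopology J

theorem mem_JB_iff {U : C} (S : Sieve (ULiftHom.objUp.{u + 1} U : CB C)) :
    S ∈ JB J (ULiftHom.objUp.{u + 1} U) ↔
      ∃ R ∈ J U, ∀ ⦃V : C⦄ (g : V ⟶ U), R g → S (ULift.up g : (ULiftHom.objUp.{u + 1} V : CB C) ⟶ _) := by
  rw [Functor.mem_inducedTopology_iff_of_isCoverDense]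
  constructor
  · refine fun h => ⟨_, h, ?_⟩
    rintro V _ ⟨Z, a, b, ha, rfl⟩
    exact S.downward_closed ha ⟨b⟩
  · rintro ⟨R, hR, h⟩
    exact J.superset_covering (fun V g hg => ⟨_, ULift.up g, 𝟙 V, h g hg, (Category.id_comp g).symm⟩) hR

variable [HasSheafify J AddCommGrpCat.{u + 1}] [J.WEqualsLocallyBijective AddCommGrpCat.{u + 1}]

/-- The equivalence of categories of sheaves. -/
abbrev ΦB : Sheaf J AddCommGrpCat.{u + 1} ≌ Sheaf (JB J) AddCommGrpCat.{u + 1} :=
  (eB C).sheafCongr J (JB J) AddCommGrpCat.{u + 1}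

/-- The constant sheaves correspond. -/
def constB : (ΦB J).functor.obj ((constantSheaf J AddCommGrpCat.{u + 1}).obj (AddCommGrpCat.of (ULift ℤ))) ≅
    (constantSheaf (JB J) AddCommGrpCat.{u + 1}).obj (AddCommGrpCat.of (ULift ℤ)) :=
  (((sheafificationAdjunction J AddCommGrpCat.{u + 1}).comp (ΦB J).toAdjunction).leftAdjointUniq
    (((eB C).op.congrLeft (E := AddCommGrpCat.{u + 1})).toAdjunction.comp
      (sheafificationAdjunction (JB J) AddCommGrpCat.{u + 1}))).app
    ((Functor.const _).obj (AddCommGrpCat.of (ULift ℤ)))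

theorem injective_ΦB (I : Sheaf J AddCommGrpCat.{u + 1}) [Injective I] : Injective ((ΦB J).functor.obj I) :=
  Injective.injective_of_adjoint (ΦB J).symm.toAdjunction I

instance hasExt_JB : HasExt.{u + 1} (Sheaf (JB J) AddCommGrpCat.{u + 1}) :=
  haveI : IsGrothendieckAbelian.{u + 1} (Sheaf (JB J) AddCommGrpCat.{u + 1}) := inferInstance
  inferInstance

variable [HasExt.{u + 1} (Sheaf J AddCommGrpCat.{u + 1})] [EnoughInjectives (Sheaf J AddCommGrpCat.{u + 1})]

attribute [local instance] Ext.subsingleton_of_injective in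
/-- Transfer of commutation of cohomology with colimits. -/
theorem preservesColimitsOfShape_functorH_of_JB {Λ : Type (u + 1)} [SmallCategory Λ] (p : ℕ)
    [PreservesColimitsOfShape Λ
      (@Sheaf.functorH.{u + 1, u + 1, u + 1, u + 1} (CB C) _ (JB J) _ (hasExt_JB J) p)] :
    PreservesColimitsOfShape Λ
      (Sheaf.functorH J p : Sheaf J AddCommGrpCat.{u + 1} ⥤ AddCommGrpCat.{u + 1}) := by
  let F := (ΦB J).functor
  haveI : PreservesFiniteLimits F := inferInstance
  haveI : PreservesFiniteColimits F := inferInstance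
  haveI : F.Additive := Functor.additive_of_preserves_binary_products F
  let Z := (constantSheaf J AddCommGrpCat.{u + 1}).obj (AddCommGrpCat.of (ULift ℤ))
  let Z' := (constantSheaf (JB J) AddCommGrpCat.{u + 1}).obj (AddCommGrpCat.of (ULift ℤ))
  let c : F.obj Z ≅ Z' := constB J
  have hb : ∀ (G : Sheaf J AddCommGrpCat.{u + 1}), Function.Bijective (F.mapExtAddHom Z G p) := fun G =>
    Groth.L28.ProEt.Cech.mapExt_bijective_of_acyclic F (fun X I hI n => by
      haveI := injective_ΦB J I
      infer_instance) Z G p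
  let pre : ∀ (G : Sheaf J AddCommGrpCat.{u + 1}), Ext (F.obj Z) (F.obj G) p ≃+ Ext Z' (F.obj G) p := fun G =>
    { toFun := fun x => (Ext.mk₀ c.inv).comp x (zero_add p)
      invFun := fun x => (Ext.mk₀ c.hom).comp x (zero_add p)
      left_inv := fun x => by
        show (Ext.mk₀ c.hom).comp ((Ext.mk₀ c.inv).comp x (zero_add p)) (zero_add p) = x
        rw [Ext.mk₀_comp_mk₀_assoc, Iso.hom_inv_id, Ext.mk₀_id_comp]
      right_inv := fun x => by
        show (Ext.mk₀ c.inv).comp ((Ext.mk₀ c.hom).comp x (zero_add p)) (zero_add p) = x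
        rw [Ext.mk₀_comp_mk₀_assoc, Iso.inv_hom_id, Ext.mk₀_id_comp]
      map_add' := fun x y => Ext.comp_add _ _ _ _ }
  let η : (Sheaf.functorH J p : Sheaf J AddCommGrpCat.{u + 1} ⥤ AddCommGrpCat.{u + 1}) ≅
      F ⋙ @Sheaf.functorH.{u + 1, u + 1, u + 1, u + 1} (CB C) _ (JB J) _ (hasExt_JB J) p :=
    NatIso.ofComponents (fun G => AddEquiv.toAddCommGrpIso ((AddEquiv.ofBijective _ (hb G)).trans (pre G)))
      fun {G G'} φ => by
        refine AddCommGrpCat.hom_ext (AddMonoidHom.ext fun x => ?_)
        show (Ext.mk₀ c.inv).comp ((x.comp (Ext.mk₀ φ) (add_zero p)).mapExactFunctor F) (zero_add p) =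
          ((Ext.mk₀ c.inv).comp (x.mapExactFunctor F) (zero_add p)).comp (Ext.mk₀ (F.map φ)) (add_zero p)
        rw [Ext.mapExactFunctor_comp, Ext.mapExactFunctor_mk₀, Ext.comp_assoc_of_third_deg_zero]
  exact preservesColimitsOfShape_of_natIso η.symm

end Groth.L09.EtColim
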