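import Groth.Agent.L09.EtColim.SmallGen
import Groth.Agent.L09.EtColim.Transport
import Groth.Agent.L09.ModEt.Basic
import Groth.Agent.L23.QcCalc
import Groth.Prelude.Def_AlgSpOX

/-!
# The small etale site of a quasi-compact quasi-separated space has enough quasi-compact objects
-/

universe u

open CategoryTheory CategoryTheory.Limits AlgebraicGeometry Opposite AlgSp

set_option autoImplicit false
set_option linter.style.haveILetI false
set_option backward.isDefEq.respectTransparency false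
set_option backward.isDefEq.respectTransparency.types false

noncomputable section

namespace Groth.L09.EtColim

open Groth.L09.ModEt (IsCover sigmaObj sigmaDesc sigmaι)

variable {S : Scheme.{u}} {X : Sp S}

/-- An object of the site as one of the enlarged site. -/
abbrev up (E : EtOver X) : CB (EtOver X) := ULiftHom.objUp.{u + 1} E

/-- The object of the site underlying one of the enlarged site. -/
abbrev dn (E : CB (EtOver X)) : EtOver X := E.objDown

theorem ofArrows_mem_JB {U : CB (EtOver X)} {ι : Type (u + 1)} (V : ι → CB (EtOver X)) (c : ∀ k, V k ⟶ U)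
    (hc : IsCover fun k => (c k).down) : Sieve.ofArrows V c ∈ JB (etTop X) U := by
  refine (mem_JB_iff (etTop X) (U := dn U) _).2 ⟨_, ofArrows_mem_etTop _ (fun k => (c k).down) hc, fun Z g hg => ?_⟩
  obtain ⟨k, l, rfl⟩ := (Sieve.mem_ofArrows_iff _ _ _).1 hg
  exact (Sieve.mem_ofArrows_iff _ _ _).2 ⟨k, ⟨l⟩, rfl⟩

theorem bot_mem_JB {Z : CB (EtOver X)} (h : IsEmpty (dn Z).obj.left.left) : ⊥ ∈ JB (etTop X) Z := by
  refine (JB (etTop X)).superset_covering (fun W a ha => ?_)
    (ofArrows_mem_JB (ι := PEmpty) PEmpty.elim (fun k => k.elim) fun z => isEmptyElim z)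
  exact ((Sieve.mem_ofArrows_iff _ _ _).1 ha).choose.elim

/-- Affine objects. -/
def AffB (E : CB (EtOver X)) : Prop := IsAffine (dn E).obj.left.left

/-- Quasi-compact objects. -/
def QcB (E : CB (EtOver X)) : Prop := CompactSpace (dn E).obj.left.left

theorem isQuasiSeparatedSp_yon [QuasiSeparatedSpace ↥S] (U : Over S) [QuasiSeparatedSpace U.left] :
    IsQuasiSeparatedSp ((yon S).obj U) := by
  refine (repWith_diag_yon_iff _ _).2 ?_
  haveI : QuasiSeparated U.hom := QuasiSeparated.of_comp U.hom S.toSpecΓ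
  exact QuasiSeparated.quasiCompact_diagonal

theorem sum_field {ι : Type (u + 1)} [Finite ι] {V : ι → CB (EtOver X)} {U : CB (EtOver X)} (c : ∀ k, V k ⟶ U)
    (hV : ∀ k, AffB (V k)) :
    ∃ (σ : CB (EtOver X)) (d : σ ⟶ U) (i : ∀ k, V k ⟶ σ), AffB σ ∧ (∀ k, i k ≫ d = c k) ∧
      Sieve.ofArrows V i ∈ JB (etTop X) σ ∧
      (∀ k (Z : CB (EtOver X)) (a b : Z ⟶ V k), a ≫ i k = b ≫ i k → a = b) ∧
      ∀ k l, k ≠ l → ∀ (Z : CB (EtOver X)) (a : Z ⟶ V k) (b : Z ⟶ V l), a ≫ i k = b ≫ i l →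
        ⊥ ∈ JB (etTop X) Z := by
  obtain ⟨n, ⟨e₀⟩⟩ := Finite.exists_equiv_fin ι
  let e : ι ≃ ULift.{u} (Fin n) := e₀.trans Equiv.ulift.symm
  obtain ⟨V₀, rfl⟩ : ∃ V₀ : ULift.{u} (Fin n) → EtOver X, (fun k => up (V₀ (e k))) = V :=
    ⟨fun j => dn (V (e.symm j)), funext fun k => congrArg (fun j => up (dn (V j))) (e.symm_apply_apply k)⟩
  obtain ⟨c₀, rfl⟩ : ∃ c₀ : ∀ j, V₀ j ⟶ dn U, (fun k => ULift.up (c₀ (e k))) = c :=
    ⟨e.piCongrLeft (fun j => V₀ j ⟶ dn U) fun k => (c k).down,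
      funext fun k => congrArg ULift.up (Equiv.piCongrLeft_apply_apply (fun j => V₀ j ⟶ dn U) e _ k)⟩
  haveI : ∀ j, IsAffine (V₀ j).obj.left.left := fun j => by
    obtain ⟨k, rfl⟩ := e.surjective j
    exact hV k
  have hmono : ∀ j, Mono (sigmaι V₀ c₀ j) := fun j => ⟨fun a b h => EtOver.hom_ext _ _ (Over.OverMorphism.ext
    ((cancel_mono (Sigma.ι (fun i => (V₀ i).obj.left.left) j)).1 (congrArg (fun k => k.hom.left.left) h)))⟩
  refine ⟨up (sigmaObj V₀ c₀), ⟨sigmaDesc V₀ c₀⟩, fun k => ⟨sigmaι V₀ c₀ (e k)⟩,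
    (inferInstance : IsAffine (sigmaObj V₀ c₀).obj.left.left),
    fun k => ULift.ext _ _ (Groth.L09.ModEt.sigmaι_desc V₀ c₀ (e k)), ?_, ?_, ?_⟩
  · refine ofArrows_mem_JB _ _ fun x => ?_
    obtain ⟨j, y, hy⟩ := Groth.L09.ModEt.isCover_sigmaι V₀ c₀ x
    obtain ⟨k, rfl⟩ := e.surjective j
    exact ⟨k, y, hy⟩
  · intro k Z a b h
    haveI := hmono (e k)
    exact ULift.ext _ _ ((cancel_mono (sigmaι V₀ c₀ (e k))).1 (congrArg ULift.down h))
  · intro k l hkl Z a b h
    refine bot_mem_JB ⟨fun z => ?_⟩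
    have h' : (sigmaι V₀ c₀ (e k)).hom.left.left (a.down.hom.left.left z) =
        (sigmaι V₀ c₀ (e l)).hom.left.left (b.down.hom.left.left z) :=
      congrArg (fun m => m.hom.left.left z) (congrArg ULift.down h)
    exact hkl (e.injective (congrArg Sigma.fst
      ((sigmaMk (fun i => (V₀ i).obj.left.left)).injective
        ((sigmaMk_mk (fun i => (V₀ i).obj.left.left) (e k) _).trans
          (h'.trans (sigmaMk_mk (fun i => (V₀ i).obj.left.left) (e l) _).symm)))))

theorem qcData [QuasiSeparatedSpace ↥S] (hqc : IsQuasiCompactSp X)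
    (hqs : IsQuasiSeparatedSp X) : QCData (JB (etTop X)) (AffB (X := X)) QcB where
  aff_qc U hU := by
    haveI : IsAffine (dn U).obj.left.left := hU
    exact (inferInstance : CompactSpace (dn U).obj.left.left)
  refine U hU S hS := by
    haveI : CompactSpace (dn U).obj.left.left := hU
    obtain ⟨R, hR, hRS⟩ := (mem_JB_iff (etTop X) (U := dn U) S).1 hS
    obtain ⟨ι, hι, V, c, hV, hcR, hc⟩ := Groth.L09.ModEt.exists_finite_cover hR
    refine ⟨ULift.{u + 1} ι, Finite.of_equiv _ Equiv.ulift.symm, fun k => up (V k.down), fun k => ⟨c k.down⟩,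
      fun k => hV k.down, fun k => hRS _ (hcR k.down), ofArrows_mem_JB _ _ fun x => ?_⟩
    obtain ⟨i, hi⟩ := hc x
    exact ⟨⟨i⟩, hi⟩
  sum {ι} _ {V} {U} c hV := sum_field c hV
  prod U U' hU hU' := by
    haveI : IsAffine (dn U).obj.left.left := hU
    haveI : IsAffine (dn U').obj.left.left := hU'
    refine ⟨up (EtOver.prodObj (dn U) (dn U')), ⟨EtOver.prodFst _ _⟩, ⟨EtOver.prodSnd _ _⟩, ?_, fun Z a b => ?_⟩
    · have sq : IsPullback ((yon S).map ((dn U').property.1.fst' (dn U).obj.hom))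
          ((yon S).map ((dn U').property.1.snd (dn U).obj.hom)) (dn U').obj.hom (dn U).obj.hom := by
        rw [Functor.relativelyRepresentable.map_fst']
        exact (dn U').property.1.isPullback (dn U).obj.hom
      exact Groth.L23.compactSpace_of_qs hqs sq
    · obtain ⟨h, h₁, h₂⟩ := BinaryFan.IsLimit.lift' (EtOver.prodIsLimit (dn U) (dn U')) a.down b.down
      exact ⟨⟨h⟩, ULift.ext _ _ h₁, ULift.ext _ _ h₂⟩
  eq U U' hU hU' f g := by
    haveI : IsAffine (dn U).obj.left.left := hU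
    haveI : IsAffine (dn U').obj.left.left := hU'
    obtain ⟨mf, hf₁, hf₂⟩ := BinaryFan.IsLimit.lift' (EtOver.prodIsLimit (dn U) (dn U')) (𝟙 _) f.down
    obtain ⟨mg, hg₁, hg₂⟩ := BinaryFan.IsLimit.lift' (EtOver.prodIsLimit (dn U) (dn U')) (𝟙 _) g.down
    change mf ≫ EtOver.prodFst (dn U) (dn U') = 𝟙 _ at hf₁
    change mf ≫ EtOver.prodSnd (dn U) (dn U') = f.down at hf₂
    change mg ≫ EtOver.prodFst (dn U) (dn U') = 𝟙 _ at hg₁
    change mg ≫ EtOver.prodSnd (dn U) (dn U') = g.down at hg₂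
    have hw : EtOver.pullbackFst mf mg = EtOver.pullbackSnd mf mg := by
      rw [← Category.comp_id (EtOver.pullbackFst mf mg), ← hf₁, ← Category.assoc, EtOver.pullback_condition,
        Category.assoc, hg₁, Category.comp_id]
    refine ⟨up (EtOver.pullbackObj mf mg), ⟨EtOver.pullbackFst mf mg⟩, ?_, ULift.ext _ _ ?_, fun Z a h => ?_⟩
    · haveI : CompactSpace ↥((EtOver.forget X).obj (dn U)).left :=
        (inferInstance : CompactSpace ↥(dn U).obj.left.left)
      haveI := isQuasiSeparatedSp_yon (dn U).obj.left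
      have hP : IsQuasiSeparatedSp ((yon S).obj (EtOver.prodObj (dn U) (dn U')).obj.left) :=
        Groth.L23.isQuasiSeparatedSp_of_isPullback ((dn U').property.1.isPullback (dn U).obj.hom)
          (isQuasiSeparatedSp_yon _) hqs (isQuasiSeparatedSp_yon _)
      exact Groth.L23.compactSpace_of_qs hP (((EtOver.isPullback mf mg).map (EtOver.forget X)).map (yon S))
    · show EtOver.pullbackFst mf mg ≫ f.down = EtOver.pullbackFst mf mg ≫ g.down
      rw [← hf₂, ← hg₂, ← Category.assoc, EtOver.pullback_condition, Category.assoc, hw]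
    · have h' : a.down ≫ f.down = a.down ≫ g.down := congrArg ULift.down h
      refine ⟨⟨(EtOver.isPullback mf mg).lift a.down a.down ?_⟩, ULift.ext _ _ (IsPullback.lift_fst _ _ _ _)⟩
      refine BinaryFan.IsLimit.hom_ext (EtOver.prodIsLimit (dn U) (dn U')) ?_ ?_
      · show (a.down ≫ mf) ≫ EtOver.prodFst (dn U) (dn U') = (a.down ≫ mg) ≫ EtOver.prodFst (dn U) (dn U')
        rw [Category.assoc, Category.assoc, hf₁, hg₁]
      · show (a.down ≫ mf) ≫ EtOver.prodSnd (dn U) (dn U') = (a.down ≫ mg) ≫ EtOver.prodSnd (dn U) (dn U')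
        rw [Category.assoc, Category.assoc, hf₂, hg₂, h']
  atlas := by
    obtain ⟨U, p, he, hs, hU⟩ := hqc
    let E₀ : EtOver X := EtOver.mk p he
    haveI : CompactSpace E₀.obj.left.left := hU
    obtain ⟨ι, hι, V, c, hV, -, hc⟩ := Groth.L09.ModEt.exists_finite_cover ((etTop X).top_mem E₀)
    haveI : Finite ι := hι
    haveI : ∀ i, IsAffine (V i).obj.left.left := hV
    let σ := sigmaObj V c
    have hσs : RepWith @Surjective σ.obj.hom := by
      refine (repWith_isMultiplicative (S := S) @Surjective).comp_mem _ _ ((repWith_yon_map_iff _ _).2 ?_) hs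
      exact ⟨Groth.L09.ModEt.surjective_sigmaDesc V c hc⟩
    refine ⟨up σ, (show IsAffine (∐ fun i => (V i).obj.left.left) from inferInstance), fun Z => ?_⟩
    refine ⟨_, ofArrows_mem_JB (ι := PUnit) (fun _ => up (EtOver.prodObj (dn Z) σ))
      (fun _ => ⟨EtOver.prodFst (dn Z) σ⟩) fun z => ?_, fun W a ha => ?_⟩
    · haveI : Surjective (σ.property.1.snd (dn Z).obj.hom).left :=
        hσs.2 (dn Z).obj.hom _ _ (σ.property.1.isPullback (dn Z).obj.hom)
      exact ⟨PUnit.unit, (σ.property.1.snd (dn Z).obj.hom).left.surjective z⟩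
    · obtain ⟨_, l, -⟩ := (Sieve.mem_ofArrows_iff _ _ _).1 ha
      exact ⟨l ≫ ⟨EtOver.prodSnd (dn Z) σ⟩⟩

/-- Etale cohomology of a qcqs space commutes with filtered colimits. -/
theorem preservesColimitsOfShape_hEtF [QuasiSeparatedSpace ↥S] (hqc : IsQuasiCompactSp X)
    (hqs : IsQuasiSeparatedSp X) (J : Type (u + 1)) [SmallCategory J] [IsFiltered J] (p : ℕ) :
    PreservesColimitsOfShape J (HEtF X p) := by
  haveI : PreservesColimitsOfShape J (@Sheaf.functorH.{u + 1, u + 1, u + 1, u + 1} (CB (EtOver X)) _ (JB (etTop X)) _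
      (hasExt_JB (etTop X)) p) := preservesColimits_of_qcData (qcData hqc hqs) J p
  exact preservesColimitsOfShape_functorH_of_JB (etTop X) p

end Groth.L09.EtColim
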