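import Groth.Agent.S0948
import Mathlib.CategoryTheory.Sites.EpiMono
import Mathlib.CategoryTheory.Sites.LocallyBijective
import Mathlib.CategoryTheory.Sites.Subcanonical

/-!
# Cohomology of sites with enough quasi-compact objects commutes with filtered colimits
-/

universe u

open CategoryTheory CategoryTheory.Limits Opposite

set_option autoImplicit false
set_option linter.style.haveILetI false
set_option backward.isDefEq.respectTransparency false
set_option backward.isDefEq.respectTransparency.types false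

noncomputable section

namespace Groth.L09.EtColim

variable {C : Type u} [SmallCategory C] (J : GrothendieckTopology C)

/-- A site with basic objects, quasi-compact objects, finite sums, products and equalizers. -/
structure QCData (Aff Qc : C → Prop) : Prop where
  aff_qc : ∀ U, Aff U → Qc U
  refine : ∀ U, Qc U → ∀ S ∈ J U, ∃ (ι : Type u) (_ : Finite ι) (V : ι → C) (c : ∀ k, V k ⟶ U),
    (∀ k, Aff (V k)) ∧ (∀ k, S (c k)) ∧ Sieve.ofArrows V c ∈ J U
  sum : ∀ {ι : Type u} [Finite ι] {V : ι → C} {U : C} (c : ∀ k, V k ⟶ U), (∀ k, Aff (V k)) →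
    ∃ (σ : C) (d : σ ⟶ U) (i : ∀ k, V k ⟶ σ), Aff σ ∧ (∀ k, i k ≫ d = c k) ∧ Sieve.ofArrows V i ∈ J σ ∧
      (∀ k (Z : C) (a b : Z ⟶ V k), a ≫ i k = b ≫ i k → a = b) ∧
      ∀ k l, k ≠ l → ∀ (Z : C) (a : Z ⟶ V k) (b : Z ⟶ V l), a ≫ i k = b ≫ i l → ⊥ ∈ J Z
  prod : ∀ U U', Aff U → Aff U' → ∃ (P : C) (p : P ⟶ U) (q : P ⟶ U'), Qc P ∧
    ∀ (Z : C) (a : Z ⟶ U) (b : Z ⟶ U'), ∃ h : Z ⟶ P, h ≫ p = a ∧ h ≫ q = b
  eq : ∀ U U', Aff U → Aff U' → ∀ f g : U ⟶ U', ∃ (Q : C) (e : Q ⟶ U), Qc Q ∧ e ≫ f = e ≫ g ∧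
    ∀ (Z : C) (a : Z ⟶ U), a ≫ f = a ≫ g → ∃ h : Z ⟶ Q, h ≫ e = a
  atlas : ∃ U, Aff U ∧ ∀ Z, ∃ S ∈ J Z, ∀ ⦃W : C⦄ (a : W ⟶ Z), S a → Nonempty (W ⟶ U)

/-- The sheaf represented by an object. -/
abbrev ySh : C ⥤ Sheaf J (Type u) := yoneda ⋙ presheafToSheaf J (Type u)

variable {J}

/-- Maps out of a represented sheaf are sections. -/
def sec {U : C} {F : Sheaf J (Type u)} : ((ySh J).obj U ⟶ F) ≃ F.obj.obj (op U) :=
  ((sheafificationAdjunction J (Type u)).homEquiv (yoneda.obj U) F).trans yonedaEquiv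

theorem sec_map {U V : C} (a : V ⟶ U) {F : Sheaf J (Type u)} (z : (ySh J).obj U ⟶ F) :
    sec ((ySh J).map a ≫ z) = F.obj.map a.op (sec z) := by
  show yonedaEquiv ((sheafificationAdjunction J (Type u)).homEquiv _ F
    ((presheafToSheaf J (Type u)).map (yoneda.map a) ≫ z)) = _
  rw [Adjunction.homEquiv_naturality_left]
  exact (yonedaEquiv_naturality _ _).symm

theorem sec_comp {U : C} {F G : Sheaf J (Type u)} (z : (ySh J).obj U ⟶ F) (φ : F ⟶ G) :
    sec (z ≫ φ) = φ.hom.app (op U) (sec z) := by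
  show yonedaEquiv ((sheafificationAdjunction J (Type u)).homEquiv _ G (z ≫ φ)) = _
  rw [Adjunction.homEquiv_naturality_right]
  rfl

theorem isSheaf_sh (F : Sheaf J (Type u)) : Presieve.IsSheaf J F.obj :=
  (isSheaf_iff_isSheaf_of_type _ _).1 F.property

theorem hom_ext_cover {U : C} {F : Sheaf J (Type u)} {S : Sieve U} (hS : S ∈ J U) {z w : (ySh J).obj U ⟶ F}
    (h : ∀ ⦃V : C⦄ (a : V ⟶ U), S a → (ySh J).map a ≫ z = (ySh J).map a ≫ w) : z = w :=
  sec.injective (((isSheaf_sh F).isSeparated S hS).ext fun V a ha =>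
    (sec_map a z).symm.trans ((congrArg sec (h a ha)).trans (sec_map a w)))

theorem epi_of_local {K' K : Sheaf J (Type u)} (φ : K' ⟶ K)
    (h : ∀ (Z : C) (z : (ySh J).obj Z ⟶ K), ∃ S ∈ J Z, ∀ ⦃V : C⦄ (a : V ⟶ Z), S a →
      ∃ w, w ≫ φ = (ySh J).map a ≫ z) : Epi φ := by
  refine (Sheaf.isLocallySurjective_iff_epi φ).1 ⟨fun {Z} t => ?_⟩
  obtain ⟨S, hS, hw⟩ := h Z (sec.symm t)
  refine J.superset_covering (fun V a ha => ?_) hS
  obtain ⟨w, hw⟩ := hw a ha
  exact ⟨sec w, by rw [← sec_comp, hw, sec_map, Equiv.apply_symm_apply]⟩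

theorem exists_local_lift {K' K : Sheaf J (Type u)} (φ : K' ⟶ K) [Epi φ] {Z : C} (z : (ySh J).obj Z ⟶ K) :
    ∃ S ∈ J Z, ∀ ⦃V : C⦄ (a : V ⟶ Z), S a → ∃ w, w ≫ φ = (ySh J).map a ≫ z := by
  haveI : Sheaf.IsLocallySurjective φ := (Sheaf.isLocallySurjective_iff_epi φ).2 inferInstance
  refine ⟨_, Presheaf.imageSieve_mem J φ.hom (U := op Z) (sec z), fun V a ⟨t, ht⟩ => ⟨sec.symm t, ?_⟩⟩
  apply sec.injective
  rw [sec_comp, Equiv.apply_symm_apply, sec_map]
  exact ht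

theorem locally_map {Z U : C} (z : (ySh J).obj Z ⟶ (ySh J).obj U) :
    ∃ S ∈ J Z, ∀ ⦃V : C⦄ (a : V ⟶ Z), S a → ∃ h : V ⟶ U, (ySh J).map h = (ySh J).map a ≫ z := by
  let η := CategoryTheory.toSheafify J (yoneda.obj U)
  refine ⟨_, Presheaf.imageSieve_mem J η (U := op Z) (sec z), fun V a ⟨h, hh⟩ => ⟨h, ?_⟩⟩
  apply sec.injective
  rw [sec_map]
  refine Eq.trans ?_ hh
  rw [← Category.comp_id ((ySh J).map h), sec_map]
  show ((presheafToSheaf J (Type u)).obj (yoneda.obj U)).obj.map h.op (yonedaEquiv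
    ((sheafificationAdjunction J (Type u)).homEquiv _ _ (𝟙 _))) = η.app (op V) h
  rw [Adjunction.homEquiv_id]
  refine (NatTrans.naturality_apply η h.op (𝟙 U)).symm.trans ?_
  exact congrArg (η.app (op V)) (Category.comp_id h)

theorem locally_eq {Z U : C} (f g : Z ⟶ U) (h : (ySh J).map f = (ySh J).map g) :
    ∃ S ∈ J Z, ∀ ⦃V : C⦄ (a : V ⟶ Z), S a → a ≫ f = a ≫ g := by
  let η := CategoryTheory.toSheafify J (yoneda.obj U)
  have key : ∀ k : Z ⟶ U, sec ((ySh J).map k) = η.app (op Z) k := fun k => by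
    rw [← Category.comp_id ((ySh J).map k), sec_map]
    show ((presheafToSheaf J (Type u)).obj (yoneda.obj U)).obj.map k.op (yonedaEquiv
      ((sheafificationAdjunction J (Type u)).homEquiv _ _ (𝟙 _))) = η.app (op Z) k
    rw [Adjunction.homEquiv_id]
    refine (NatTrans.naturality_apply η k.op (𝟙 U)).symm.trans ?_
    exact congrArg (η.app (op Z)) (Category.comp_id k)
  exact ⟨Presheaf.equalizerSieve (F := yoneda.obj U) (X := op Z) f g,
    Presheaf.equalizerSieve_mem J η (X := op Z) f g ((key f).symm.trans ((congrArg sec h).trans (key g))),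
    fun V a ha => ha⟩

variable {Aff Qc : C → Prop} (D : QCData J Aff Qc)

/-- The class of sheaves represented by basic objects. -/
def cls (J : GrothendieckTopology C) (Aff : C → Prop) : Set (Sheaf J (Type u)) :=
  {K | ∃ U, Aff U ∧ K = (ySh J).obj U}

theorem exists_glue {ι : Type u} {V : ι → C} {σ : C} {i : ∀ k, V k ⟶ σ} (hi : Sieve.ofArrows V i ∈ J σ)
    (hinj : ∀ k (Z : C) (a b : Z ⟶ V k), a ≫ i k = b ≫ i k → a = b)
    (hdis : ∀ k l, k ≠ l → ∀ (Z : C) (a : Z ⟶ V k) (b : Z ⟶ V l), a ≫ i k = b ≫ i l → ⊥ ∈ J Z)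
    {F : Sheaf J (Type u)} (t : ∀ k, (ySh J).obj (V k) ⟶ F) : ∃ s, ∀ k, (ySh J).map (i k) ≫ s = t k := by
  have hcompat : Presieve.Arrows.Compatible F.obj i (fun k => sec (t k)) := by
    intro k l Z a b e
    by_cases hkl : k = l
    · subst hkl
      rw [hinj k Z a b e]
    · exact ((isSheaf_sh F).isSeparated ⊥ (hdis k l hkl Z a b e)).ext fun W g hg => hg.elim
  obtain ⟨s, hs, -⟩ := ((Presieve.isSheafFor_arrows_iff _ _).mp
    ((Presieve.isSheafFor_iff_generate _).mpr (isSheaf_sh F _ hi))) _ hcompat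
  exact ⟨sec.symm s, fun k => sec.injective (by rw [sec_map, Equiv.apply_symm_apply]; exact hs k)⟩

include D in
theorem preservesColimits_of_qcData (Λ : Type u) [SmallCategory Λ] [IsFiltered Λ] (p : ℕ) :
    PreservesColimitsOfShape Λ (Sheaf.functorH J p : Sheaf J AddCommGrpCat.{u} ⥤ AddCommGrpCat.{u}) := by
  refine Groth.Agent.S0948.result (cls J Aff) ?_ ?_ ?_ ?_ ?_ Λ p
  · obtain ⟨U, hU, hat⟩ := D.atlas
    refine ⟨_, ⟨U, hU, rfl⟩, epi_of_local _ fun Z z => ?_⟩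
    obtain ⟨S, hS, h⟩ := hat Z
    exact ⟨S, hS, fun V a ha => ⟨(ySh J).map (h a ha).some, terminal.hom_ext _ _⟩⟩
  · rintro F K g ⟨U, hU, rfl⟩ hg
    haveI := hg
    obtain ⟨S, hS, hl⟩ := exists_local_lift g (𝟙 ((ySh J).obj U))
    obtain ⟨ι, _, V, c, hV, hcS, hc⟩ := D.refine U (D.aff_qc U hU) S hS
    choose w hw using fun k => hl (c k) (hcS k)
    obtain ⟨σ, d, i, hσ, hid, hi, hinj, hdis⟩ := D.sum c hV
    obtain ⟨s, hs⟩ := exists_glue hi hinj hdis w
    have hsd : s ≫ g = (ySh J).map d := hom_ext_cover hi fun W a ha => by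
      obtain ⟨k, l, rfl⟩ := (Sieve.mem_ofArrows_iff _ _ _).1 ha
      rw [Functor.map_comp, Category.assoc, Category.assoc, ← Category.assoc ((ySh J).map (i k)) s g, hs k, hw, Category.comp_id,
        ← Functor.map_comp, ← Functor.map_comp, hid]
      simp only [Functor.map_comp]
    refine ⟨_, s, ⟨σ, hσ, rfl⟩, hsd ▸ epi_of_local _ fun Z z => ?_⟩
    obtain ⟨S₁, hS₁, h₁⟩ := locally_map z
    refine ⟨_, J.bind_covering hS₁ (R := fun W a ha => (Sieve.ofArrows V c).pullback (h₁ a ha).choose)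
      (fun W a ha => J.pullback_stable _ hc), ?_⟩
    rintro W _ ⟨Z', b, a, ha, hb, rfl⟩
    obtain ⟨k, l, hl⟩ := (Sieve.mem_ofArrows_iff _ _ _).1 hb
    refine ⟨(ySh J).map (l ≫ i k), ?_⟩
    rw [← Functor.map_comp, Category.assoc, hid, ← hl, Functor.map_comp, (h₁ a ha).choose_spec, Functor.map_comp,
      Category.assoc]
  · rintro K ⟨U, hU, rfl⟩ K' ⟨U', hU', rfl⟩
    obtain ⟨P, pr, qr, hP, huniv⟩ := D.prod U U' hU hU'
    obtain ⟨ι, _, V, c, hV, -, hc⟩ := D.refine P hP ⊤ (J.top_mem P)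
    obtain ⟨σ, d, i, hσ, hid, hi, -, -⟩ := D.sum c hV
    refine ⟨_, prod.lift ((ySh J).map (d ≫ pr)) ((ySh J).map (d ≫ qr)), ⟨σ, hσ, rfl⟩, epi_of_local _ fun Z z => ?_⟩
    obtain ⟨S₁, hS₁, h₁⟩ := locally_map (z ≫ prod.fst)
    obtain ⟨S₂, hS₂, h₂⟩ := locally_map (z ≫ prod.snd)
    let hh : ∀ ⦃W : C⦄ (a : W ⟶ Z) (ha : (S₁ ⊓ S₂) a), ∃ h : W ⟶ P,
        h ≫ pr = (h₁ a ha.1).choose ∧ h ≫ qr = (h₂ a ha.2).choose := fun W a ha => huniv W _ _
    refine ⟨_, J.bind_covering (J.intersection_covering hS₁ hS₂)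
      (R := fun W a ha => (Sieve.ofArrows V c).pullback (hh a ha).choose) (fun W a ha => J.pullback_stable _ hc), ?_⟩
    rintro W _ ⟨Z', b, a, ha, hb, rfl⟩
    obtain ⟨k, l, hl⟩ := (Sieve.mem_ofArrows_iff _ _ _).1 hb
    refine ⟨(ySh J).map (l ≫ i k), prod.hom_ext ?_ ?_⟩
    · rw [Category.assoc, prod.lift_fst, ← Functor.map_comp, ← Category.assoc, Category.assoc l, hid, ← hl,
        Category.assoc, (hh a ha).choose_spec.1, Functor.map_comp, (h₁ a ha.1).choose_spec, Functor.map_comp]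
      simp only [Category.assoc]
    · rw [Category.assoc, prod.lift_snd, ← Functor.map_comp, ← Category.assoc, Category.assoc l, hid, ← hl,
        Category.assoc, (hh a ha).choose_spec.2, Functor.map_comp, (h₂ a ha.2).choose_spec, Functor.map_comp]
      simp only [Category.assoc]
  · rintro K ⟨U, hU, rfl⟩ K' ⟨U', hU', rfl⟩ α β
    obtain ⟨Sα, hSα, hα⟩ := locally_map α
    obtain ⟨Sβ, hSβ, hβ⟩ := locally_map β
    obtain ⟨ι, _, V, c, hV, hcS, hc⟩ := D.refine U (D.aff_qc U hU) _ (J.intersection_covering hSα hSβ)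
    choose f hf using fun k => hα (c k) (hcS k).1
    choose g hg using fun k => hβ (c k) (hcS k).2
    choose Q e hQ hee hQu using fun k => D.eq (V k) U' (hV k) hU' (f k) (g k)
    choose ι' hfin W w hW _hw₁ hw using fun k => D.refine (Q k) (hQ k) ⊤ (J.top_mem _)
    haveI := hfin
    obtain ⟨σ, d, i, hσ, hid, hi, -, -⟩ :=
      D.sum (ι := Σ k, ι' k) (fun kl => w kl.1 kl.2 ≫ e kl.1 ≫ c kl.1) fun kl => hW kl.1 kl.2
    have heq : (ySh J).map d ≫ α = (ySh J).map d ≫ β := hom_ext_cover hi fun Z a ha => by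
      obtain ⟨⟨k, l⟩, m, rfl⟩ := (Sieve.mem_ofArrows_iff _ _ _).1 ha
      rw [← Functor.map_comp_assoc, ← Functor.map_comp_assoc, Category.assoc, hid,
        ← Category.assoc (w k l), ← Category.assoc m, Functor.map_comp, Category.assoc, Category.assoc,
        ← hf, ← hg, ← Functor.map_comp, ← Functor.map_comp, Category.assoc, Category.assoc, Category.assoc,
        Category.assoc, hee]
    refine ⟨_, equalizer.lift _ heq, ⟨σ, hσ, rfl⟩, epi_of_local _ fun Z z => ?_⟩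
    obtain ⟨S₁, hS₁, h₁⟩ := locally_map (z ≫ equalizer.ι α β)
    have hloc : ∀ ⦃Z' : C⦄ (a : Z' ⟶ Z) (ha : S₁ a), ∃ S ∈ J Z', ∀ ⦃Y : C⦄ (b : Y ⟶ Z'), S b →
        ∃ v, v ≫ equalizer.lift _ heq = (ySh J).map (b ≫ a) ≫ z := fun Z' a ha => by
      let h := (h₁ a ha).choose
      let S₂ := (Sieve.ofArrows V c).pullback h
      have h2 : ∀ ⦃Z'' : C⦄ (b : Z'' ⟶ Z'), S₂ b → ∃ S ∈ J Z'', ∀ ⦃Y : C⦄ (r : Y ⟶ Z''), S r →
          ∃ v, v ≫ equalizer.lift _ heq = (ySh J).map ((r ≫ b) ≫ a) ≫ z := fun Z'' b hb => by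
        obtain ⟨k, l, hl⟩ := (Sieve.mem_ofArrows_iff _ _ _).1 hb
        obtain ⟨S₃, hS₃, h₃⟩ := locally_eq (l ≫ f k) (l ≫ g k) (by
          rw [Functor.map_comp, hf, Functor.map_comp, hg, ← Functor.map_comp_assoc, ← Functor.map_comp_assoc, ← hl,
            Functor.map_comp, (h₁ a ha).choose_spec]
          simp only [Category.assoc]
          rw [equalizer.condition])
        let hr : ∀ ⦃Y : C⦄ (r : Y ⟶ Z''), S₃ r → ∃ q : Y ⟶ Q k, q ≫ e k = r ≫ l := fun Y r hr =>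
          hQu k Y (r ≫ l) (by rw [Category.assoc, Category.assoc]; exact h₃ r hr)
        refine ⟨_, J.bind_covering hS₃ (R := fun Y r hr' => (Sieve.ofArrows (W k) (w k)).pullback (hr r hr').choose)
          (fun Y r _ => J.pullback_stable _ (hw k)), ?_⟩
        rintro Y _ ⟨Y', r', r, hr', hr'', rfl⟩
        obtain ⟨j, q, hq⟩ := (Sieve.mem_ofArrows_iff _ _ _).1 hr''
        refine ⟨(ySh J).map (q ≫ i ⟨k, j⟩), equalizer.hom_ext ?_⟩
        have he : (q ≫ i ⟨k, j⟩) ≫ d = ((r' ≫ r) ≫ b) ≫ h := by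
          rw [Category.assoc, hid, ← Category.assoc q, ← hq, Category.assoc, ← Category.assoc _ (e k),
            (hr r hr').choose_spec, Category.assoc r, ← hl]
          simp only [Category.assoc]
        rw [Category.assoc, equalizer.lift_ι, ← Functor.map_comp, he, Functor.map_comp, (h₁ a ha).choose_spec,
          Functor.map_comp _ _ a]
        simp only [Category.assoc]
      choose S₄ hS₄ h₄ using h2
      refine ⟨_, J.bind_covering (J.pullback_stable h hc) (R := fun Y b hb => S₄ b hb) (fun Y b hb => hS₄ b hb), ?_⟩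
      rintro Y _ ⟨Z'', r, b, hb, hr, rfl⟩
      exact h₄ b hb r hr
    choose S₅ hS₅ h₅ using hloc
    refine ⟨_, J.bind_covering hS₁ (R := fun Y a ha => S₅ a ha) (fun Y a ha => hS₅ a ha), ?_⟩
    rintro Y _ ⟨Z', b, a, ha, hb, rfl⟩
    exact h₅ a ha b hb
  · rintro K ⟨U, hU, rfl⟩ I L f hf
    obtain ⟨S, hS, hS'⟩ := hf U (sec (𝟙 _))
    obtain ⟨ι, _, V, c, hV, hcS, hc⟩ := D.refine U (D.aff_qc U hU) S hS
    choose j x hx using fun k => hS' _ (c k) (hcS k)
    classical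
    haveI := Fintype.ofFinite ι
    refine ⟨Finset.univ.image j, fun Z z => ?_⟩
    obtain ⟨S₁, hS₁, h₁⟩ := locally_map (sec.symm z)
    refine ⟨_, J.bind_covering hS₁ (R := fun W a ha => (Sieve.ofArrows V c).pullback (h₁ a ha).choose)
      (fun W a ha => J.pullback_stable _ hc), ?_⟩
    rintro W _ ⟨Z', b, a, ha, hb, rfl⟩
    obtain ⟨k, l, hl⟩ := (Sieve.mem_ofArrows_iff _ _ _).1 hb
    refine ⟨⟨j k, Finset.mem_image_of_mem j (Finset.mem_univ k)⟩, (L (j k)).obj.map l.op (x k), ?_⟩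
    refine (NatTrans.naturality_apply (f (j k)).hom l.op (x k)).trans ?_
    rw [hx k, ← sec_map, ← sec_map, Category.comp_id, ← Functor.map_comp, ← hl, Functor.map_comp,
      (h₁ a ha).choose_spec, ← Functor.map_comp_assoc, sec_map, Equiv.apply_symm_apply]

end Groth.L09.EtColim
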